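import Cfsg.Agent.Recognition.CommGraphLThree.Rels
import Mathlib.GroupTheory.Sylow

/-!
A group of order 48 with the centraliser sizes of `GL(2,3)` and a second involution is `GL(2,3)`.
-/

set_option autoImplicit false
set_option maxRecDepth 8000

namespace Cfsg.Lib.CommGraphLThree

open Subgroup Cfsg.Lib.GLTwoThree

universe u

/-- The transposition. -/
def sT : Equiv.Perm (Fin 4) := Equiv.swap 0 1
/-- A double transposition. -/
def sI : Equiv.Perm (Fin 4) := Equiv.swap 0 1 * Equiv.swap 2 3
/-- A three-cycle inverted by the transposition. -/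
def sR : Equiv.Perm (Fin 4) := Equiv.swap 0 1 * Equiv.swap 1 2

theorem perm_facts :
    sR * (sR * sR) = 1 ∧ sR ≠ 1 ∧ sT * sR * sT = sR * sR ∧ sT * sI * sT⁻¹ = sI ∧ sI ≠ 1 ∧ sT * sT = 1 ∧ sI * sI = 1 ∧
      sI * (sR * sI * sR⁻¹) = sR * (sR * sI * sR⁻¹) * sR⁻¹ ∧
      sR⁻¹ * sI * sR = sR * (sR * sI * sR⁻¹) * sR⁻¹ := by decide

theorem perm_invol : ∀ σ : Equiv.Perm (Fin 4), σ * σ = 1 → σ ≠ 1 →
    ∃ τ : Equiv.Perm (Fin 4), τ * σ * τ⁻¹ = sI ∨ τ * σ * τ⁻¹ = sT := by decide +kernel

theorem perm_word : ∀ σ : Equiv.Perm (Fin 4), ∃ a : Fin 2, ∃ b : Fin 2, ∃ c : Fin 3, ∃ d : Fin 2,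
    σ = sI ^ a.val * (sR * sI * sR⁻¹) ^ b.val * sR ^ c.val * sT ^ d.val := by decide +kernel

theorem perm_eight : Function.Injective fun n : Fin 2 × Fin 2 × Fin 2 =>
    sT ^ n.1.val * sI ^ n.2.1.val * (sR * sI * sR⁻¹) ^ n.2.2.val := by decide +kernel

/-- A group of order 48 with the centraliser sizes of `GL(2,3)`. -/
structure Hyp (C : Type u) [Group C] (z : C) : Prop where
  card : Nat.card C = 48
  zc : ∀ x, z * x = x * z
  z2 : z * z = 1
  z1 : z ≠ 1
  cent : ∀ x : C, x ≠ 1 → x ≠ z → Nat.card (centralizer ({x} : Set C)) ∈ ({4, 6, 8} : Finset ℕ)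

namespace Hyp

variable {C : Type u} [Group C] [Finite C] {z : C} (S : Hyp C z)
include S

theorem zC (x : C) : z ∈ centralizer ({x} : Set C) := mem_centralizer_singleton_iff.2 (S.zc x)

theorem order_z : orderOf z = 2 := orderOf_eq_prime (by rw [pow_two, S.z2]) S.z1

theorem cent_three {x : C} (hx : orderOf x = 3) : Nat.card (centralizer ({x} : Set C)) = 6 := by
  have h1 : x ≠ 1 := fun e => by rw [e, orderOf_one] at hx; omega
  have h2 : x ≠ z := fun e => by rw [e, S.order_z] at hx; omega
  have d3 : 3 ∣ Nat.card (centralizer ({x} : Set C)) := hx ▸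
    ((Nat.card_zpowers x) ▸ card_dvd_of_le (zpowers_le.2 (mem_centralizer_singleton_iff.2 rfl)))
  have := S.cent x h1 h2
  simp only [Finset.mem_insert, Finset.mem_singleton] at this
  rcases this with h | h | h <;> rw [h] at d3 ⊢ <;> omega

theorem card_sylow (P : Sylow 3 C) : Nat.card P = 3 := by
  have : Fact (Nat.Prime 3) := ⟨Nat.prime_three⟩
  rw [Sylow.card_eq_multiplicity, S.card, show (48 : ℕ) = 2 ^ 4 * 3 by norm_num,
    Nat.factorization_mul (by norm_num) (by norm_num), Nat.factorization_pow]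
  simp [Nat.Prime.factorization Nat.prime_two, Nat.Prime.factorization Nat.prime_three]

theorem exists_gen (P : Sylow 3 C) : ∃ x : C, orderOf x = 3 ∧ (P : Subgroup C) = zpowers x := by
  have : Fact (Nat.Prime 3) := ⟨Nat.prime_three⟩
  have h := S.card_sylow P
  obtain ⟨x, hx⟩ := exists_prime_orderOf_dvd_card' (G := (P : Subgroup C)) 3 (by rw [h])
  have hx' : orderOf (x : C) = 3 := (Subgroup.orderOf_coe x).trans hx
  refine ⟨x, hx', (Subgroup.eq_of_le_of_card_ge (zpowers_le.2 x.2) ?_).symm⟩
  rw [Nat.card_zpowers, hx', h]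

theorem not_subsingleton : ∀ P : Sylow 3 C, ¬ (P : Subgroup C).Normal := by
  intro P hn
  obtain ⟨x, hx, hP⟩ := S.exists_gen P
  let f : C ⧸ centralizer ({x} : Set C) → (P : Subgroup C) := fun q => Quotient.liftOn' q
    (fun g => (⟨g * x * g⁻¹, hn.conj_mem x (by rw [hP]; exact mem_zpowers x) g⟩ : (P : Subgroup C)))
    (fun a b hab => by
      rw [QuotientGroup.leftRel_apply, mem_centralizer_singleton_iff] at hab
      refine Subtype.ext ?_
      show a * x * a⁻¹ = b * x * b⁻¹
      calc a * x * a⁻¹ = a * (x * (a⁻¹ * b)) * b⁻¹ := by group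
        _ = a * ((a⁻¹ * b) * x) * b⁻¹ := by rw [hab]
        _ = b * x * b⁻¹ := by group)
  have hf : Function.Injective f := by
    intro q r h
    induction q using Quotient.inductionOn'
    induction r using Quotient.inductionOn'
    rename_i a b
    refine Quotient.sound' ?_
    rw [QuotientGroup.leftRel_apply, mem_centralizer_singleton_iff]
    have h' : a * x * a⁻¹ = b * x * b⁻¹ := congrArg Subtype.val h
    calc a⁻¹ * b * x = a⁻¹ * (b * x * b⁻¹) * b := by group
      _ = a⁻¹ * (a * x * a⁻¹) * b := by rw [h']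
      _ = x * (a⁻¹ * b) := by group
  have h1 := Nat.card_le_card_of_injective f hf
  have h2 := (centralizer ({x} : Set C)).index_mul_card
  rw [S.cent_three hx, S.card] at h2
  rw [S.card_sylow] at h1
  change (centralizer ({x} : Set C)).index ≤ 3 at h1
  omega

theorem card_sylow_three : Nat.card (Sylow 3 C) = 4 := by
  have : Fact (Nat.Prime 3) := ⟨Nat.prime_three⟩
  obtain ⟨P⟩ : Nonempty (Sylow 3 C) := inferInstance
  obtain ⟨x, hx, hP⟩ := S.exists_gen P
  have h1 : Nat.card (Sylow 3 C) % 3 = 1 % 3 := card_sylow_modEq_one 3 C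
  have h2 := P.card_eq_index_normalizer
  have hle : centralizer ({x} : Set C) ≤ normalizer (P : Set C) := by
    intro g hg
    rw [← centralizer_closure, ← zpowers_eq_closure] at hg
    rw [show (P : Set C) = (zpowers x : Set C) from congrArg SetLike.coe hP]
    exact Subgroup.centralizer_le_normalizer _ hg
  have h3 := card_dvd_of_le hle
  rw [S.cent_three hx] at h3
  have h4 := (normalizer (P : Set C)).index_mul_card
  rw [S.card, ← h2] at h4
  have h5 : Nat.card (Sylow 3 C) ≠ 1 := fun e => by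
    rw [e] at h2
    exact S.not_subsingleton P (Subgroup.normalizer_eq_top_iff.1 (Subgroup.index_eq_one.1 h2.symm))
  obtain ⟨k, hk⟩ := h3
  rw [hk] at h4
  have hn8 : Nat.card (Sylow 3 C) * k = 8 := by linarith [h4]
  have hd : Nat.card (Sylow 3 C) ∣ 8 := ⟨k, hn8.symm⟩
  have h6 : Nat.card (Sylow 3 C) ∈ Nat.divisors 8 := Nat.mem_divisors.2 ⟨hd, by norm_num⟩
  rw [show Nat.divisors 8 = {1, 2, 4, 8} by decide] at h6
  simp only [Finset.mem_insert, Finset.mem_singleton] at h6
  omega

theorem exists_perm : ∃ π : C →* Equiv.Perm (Fin 4),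
    (∀ a b, π a = π b → b = a ∨ b = a * z) ∧ π z = 1 ∧ Function.Surjective π := by
  classical
  have : Fact (Nat.Prime 3) := ⟨Nat.prime_three⟩
  have hcard := S.card_sylow_three
  obtain ⟨e⟩ : Nonempty (Sylow 3 C ≃ Fin 4) := Finite.card_eq.1 (by rw [hcard, Nat.card_fin])
  let π : C →* Equiv.Perm (Fin 4) := e.permCongrHom.toMonoidHom.comp (MulAction.toPermHom C (Sylow 3 C))
  have hmem : ∀ {g : C}, g ∈ π.ker → ∀ P : Sylow 3 C, g ∈ normalizer (P : Set C) := by
    intro g hg P
    have h : MulAction.toPermHom C (Sylow 3 C) g = 1 :=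
      e.permCongrHom.injective (by rw [map_one]; exact MonoidHom.mem_ker.1 hg)
    exact Sylow.smul_eq_iff_mem_normalizer.1 (Equiv.congr_fun h P)
  have hz : π z = 1 := by
    have h : MulAction.toPermHom C (Sylow 3 C) z = 1 := Equiv.ext fun P =>
      Sylow.smul_eq_iff_mem_normalizer.2 (Subgroup.centralizer_le_normalizer _ (mem_centralizer_iff.2 fun y _ => (S.zc y).symm))
    show e.permCongrHom (MulAction.toPermHom C (Sylow 3 C) z) = 1
    rw [h, map_one]
  have hker : ∀ g ∈ π.ker, g = 1 ∨ g = z := by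
    intro g hg
    by_cases h3 : 3 ∣ Nat.card π.ker
    · exfalso
      obtain ⟨x, hx⟩ := exists_prime_orderOf_dvd_card' (G := π.ker) 3 h3
      have hx' : orderOf (x : C) = 3 := (Subgroup.orderOf_coe x).trans hx
      have key : ∀ P : Sylow 3 C, (x : C) ∈ P := by
        intro P
        obtain ⟨Q, hQ⟩ := (IsPGroup.of_card (n := 1) (by rw [Nat.card_zpowers, hx', pow_one]) :
          IsPGroup 3 (zpowers (x : C))).exists_le_sylow
        have := IsPGroup.inf_normalizer_sylow (P := zpowers (x : C))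
          (IsPGroup.of_card (n := 1) (by rw [Nat.card_zpowers, hx', pow_one])) P
        have hm : (x : C) ∈ zpowers (x : C) ⊓ normalizer (P : Set C) :=
          ⟨mem_zpowers _, hmem x.2 P⟩
        exact (this.le hm).2
      have huniq : ∀ P Q : Sylow 3 C, P = Q := by
        intro P Q
        refine Sylow.ext ?_
        have hgen : ∀ R : Sylow 3 C, zpowers (x : C) = (R : Subgroup C) := fun R =>
          Subgroup.eq_of_le_of_card_ge (zpowers_le.2 (key R)) (by rw [Nat.card_zpowers, hx', S.card_sylow])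
        rw [← hgen P, ← hgen Q]
      have : Subsingleton (Sylow 3 C) := ⟨huniq⟩
      rw [Nat.card_unique] at hcard
      omega
    · obtain ⟨P⟩ : Nonempty (Sylow 3 C) := inferInstance
      obtain ⟨x, hx, hP⟩ := S.exists_gen P
      have hgx : g ∈ centralizer ({x} : Set C) := by
        have hc : g * x * g⁻¹ * x⁻¹ ∈ π.ker ⊓ zpowers x := by
          constructor
          · rw [show g * x * g⁻¹ * x⁻¹ = g * (x * g⁻¹ * x⁻¹) by group]
            exact mul_mem hg (π.normal_ker.conj_mem _ (inv_mem hg) x)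
          · show g * x * g⁻¹ * x⁻¹ ∈ zpowers x
            rw [← hP]
            refine mul_mem ?_ (Subgroup.inv_mem (P : Subgroup C) (hP ▸ mem_zpowers x))
            exact (mem_normalizer_iff.1 (hmem hg P) x).1 (hP ▸ mem_zpowers x)
        rw [inf_eq_bot_of_coprime (by
          rw [Nat.card_zpowers, hx]
          exact (Nat.Prime.coprime_iff_not_dvd Nat.prime_three).2 h3 |>.symm)] at hc
        rw [mem_centralizer_singleton_iff]
        calc g * x = (g * x * g⁻¹ * x⁻¹) * x * g := by group
          _ = x * g := by rw [Subgroup.mem_bot.1 hc, one_mul]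
      have hg2 : g * g = 1 := by
        have hd1 : orderOf g ∣ Nat.card π.ker := Subgroup.orderOf_dvd_natCard _ hg
        have hd2 : orderOf g ∣ 6 := S.cent_three hx ▸ Subgroup.orderOf_dvd_natCard _ hgx
        have hd : orderOf g ∣ Nat.gcd (Nat.card π.ker) (2 * 3) := Nat.dvd_gcd hd1 hd2
        rw [Nat.Coprime.gcd_mul_right_cancel_right 2 ((Nat.Prime.coprime_iff_not_dvd Nat.prime_three).2 h3)] at hd
        rw [← pow_two]
        exact orderOf_dvd_iff_pow_eq_one.1 (hd.trans (Nat.gcd_dvd_right _ _))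
      by_contra hne
      push Not at hne
      obtain ⟨h1, h2⟩ := hne
      let X := centralizer ({x} : Set C)
      let F : Subgroup C :=
        { carrier := {1, g, z, g * z}
          one_mem' := Or.inl rfl
          inv_mem' := by
            have gi : g⁻¹ = g := inv_eq_of_mul_eq_one_right hg2
            have zi : z⁻¹ = z := inv_eq_of_mul_eq_one_right S.z2
            intro a ha
            simp only [Set.mem_insert_iff, Set.mem_singleton_iff] at ha ⊢
            rcases ha with ha | ha | ha | ha <;> rw [ha] <;> simp [gi, zi, S.zc g]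
          mul_mem' := by
            have e1 : ∀ y, z * (z * y) = y := fun y => by rw [← mul_assoc, S.z2, one_mul]
            have e2 : ∀ y, g * (g * y) = y := fun y => by rw [← mul_assoc, hg2, one_mul]
            have e3 : z * g = g * z := S.zc g
            have e4 : ∀ y, z * (g * y) = g * (z * y) := fun y => by rw [← mul_assoc, e3, mul_assoc]
            intro a b ha hb
            simp only [Set.mem_insert_iff, Set.mem_singleton_iff] at ha hb ⊢
            rcases ha with ha | ha | ha | ha <;> rcases hb with hb | hb | hb | hb <;> rw [ha, hb] <;>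
              simp [hg2, S.z2, e1, e2, e3, e4, mul_assoc] }
      have hF : F ≤ X := by
        rintro a (rfl | rfl | rfl | rfl)
        exacts [one_mem _, hgx, S.zC x, mul_mem hgx (S.zC x)]
      have hF4 : Nat.card F = 4 := by
        have hfin : (F : Set C) = ↑({1, g, z, g * z} : Finset C) := by
          show ({1, g, z, g * z} : Set C) = _
          simp
        show Nat.card (F : Set C) = 4
        rw [Nat.card_coe_set_eq, hfin, Set.ncard_coe_finset]
        have n1 : g * z ≠ 1 := fun e => h2 (by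
          calc g = g * z * z := by rw [mul_assoc, S.z2, mul_one]
            _ = z := by rw [e, one_mul])
        have n2 : g * z ≠ g := fun e => S.z1 (mul_eq_left.1 e)
        have n3 : g * z ≠ z := fun e => h1 (mul_eq_right.1 e)
        simp [Finset.card_insert_of_notMem, Ne.symm h1, Ne.symm S.z1, Ne.symm n1, h2, Ne.symm n2, Ne.symm n3]
      have := card_dvd_of_le hF
      rw [hF4, S.cent_three hx] at this
      omega
  refine ⟨π, fun a b h => ?_, hz, ?_⟩
  · have : a⁻¹ * b ∈ π.ker := MonoidHom.mem_ker.2 (by rw [map_mul, map_inv, h, inv_mul_cancel])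
    rcases hker _ this with e | e
    · exact Or.inl (inv_mul_eq_one.1 e).symm
    · exact Or.inr (by rw [← e, mul_inv_cancel_left])
  · rw [← MonoidHom.range_eq_top]
    refine Subgroup.eq_top_of_le_card _ ?_
    have h1 := Subgroup.card_eq_card_quotient_mul_card_subgroup π.ker
    rw [Nat.card_congr (QuotientGroup.quotientKerEquivRange π).toEquiv, S.card] at h1
    have h2 : Nat.card π.ker ≤ 2 := by
      have hsub : (π.ker : Set C) ⊆ ↑({1, z} : Finset C) := fun g hg => by simpa using hker g hg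
      show Nat.card (π.ker : Set C) ≤ 2
      rw [Nat.card_coe_set_eq]
      refine (Set.ncard_le_ncard hsub (Finset.finite_toSet _)).trans ?_
      rw [Set.ncard_coe_finset]
      exact Finset.card_le_two
    rw [Nat.card_perm, Nat.card_fin, show Nat.factorial 4 = 24 from rfl]
    nlinarith

variable {π : C →* Equiv.Perm (Fin 4)} (hπ : ∀ a b, π a = π b → b = a ∨ b = a * z) (hz : π z = 1)
  (hs : Function.Surjective π)
include hπ hz hs

theorem exists_three : ∃ p : C, π p = sR ∧ p * (p * p) = 1 := by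
  obtain ⟨c, hc⟩ := hs sR
  obtain ⟨hR3, -⟩ := perm_facts
  have h3 : π (c ^ 3) = π 1 := by rw [map_pow, hc, map_one, pow_succ', pow_two, hR3]
  refine ⟨c ^ 4, by rw [map_pow, hc, pow_succ', show sR ^ 3 = 1 by rw [pow_succ', pow_two, hR3], mul_one], ?_⟩
  have h6 : (c ^ 3) ^ 2 = 1 := by
    rcases hπ _ _ h3 with e | e
    · rw [← e, one_pow]
    · have : c ^ 3 = z := by
        calc c ^ 3 = c ^ 3 * z * z := by rw [mul_assoc, S.z2, mul_one]
          _ = z := by rw [← e, one_mul]
      rw [this, pow_two, S.z2]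
  rw [← pow_two, ← pow_succ', ← pow_mul, show 4 * (2 + 1) = (3 * 2) * 2 by norm_num, pow_mul, pow_mul, h6, one_pow]

theorem two_cases (a b : C) (h : π b = π a) : b = a ∨ b = a * z := hπ a b h.symm

/-- The conjugation of a preimage of the double transposition. -/
theorem conj_I {i d : C} (hi : π i = sI) (hd : π d = sT) : d * i * d⁻¹ = i ∨ d * i * d⁻¹ = i * z := by
  refine two_cases S hπ hz hs i _ ?_
  rw [map_mul, map_mul, map_inv, hi, hd]
  exact perm_facts.2.2.2.1

/-- The image of the second quaternion generator. -/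
theorem conj_J {p i d : C} (hp3 : p * (p * p) = 1) (hd : π d = sT) (hp : π p = sR) :
    d * (p * i * p⁻¹) * d⁻¹ = p⁻¹ * (d * i * d⁻¹) * p := by
  have e : d * p * d⁻¹ = p * p := by
    obtain ⟨-, -, hTR, -, -, hT2, -⟩ := perm_facts
    have h := two_cases S hπ hz hs (p * p) (d * p * d⁻¹) (by
      rw [map_mul, map_mul, map_mul, map_inv, hp, hd, inv_eq_of_mul_eq_one_right hT2, hTR])
    refine h.resolve_right fun h => S.z1 ?_
    have h3 : (d * p * d⁻¹) * ((d * p * d⁻¹) * (d * p * d⁻¹)) = d * (p * (p * p)) * d⁻¹ := by group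
    rw [hp3, mul_one, mul_inv_cancel, h] at h3
    have : p * p * z * (p * p * z * (p * p * z)) = p * (p * p) * (p * (p * p)) * (z * (z * z)) := by
      have e1 : ∀ y, z * (p * y) = p * (z * y) := fun y => by rw [← mul_assoc, S.zc, mul_assoc]
      simp only [mul_assoc, e1]
    rw [this, hp3, S.z2] at h3
    simpa using h3
  have hpi : p⁻¹ = p * p := inv_eq_of_mul_eq_one_right hp3
  calc d * (p * i * p⁻¹) * d⁻¹ = (d * p * d⁻¹) * (d * i * d⁻¹) * (d * p * d⁻¹)⁻¹ := by group
    _ = _ := by rw [e, ← hpi, inv_inv]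

theorem mid {p i : C} (hi : π i = sI) (hp : π p = sR) :
    p * (p * i * p⁻¹) * p⁻¹ = i * (p * i * p⁻¹) ∨ p * (p * i * p⁻¹) * p⁻¹ = i * (p * i * p⁻¹) * z := by
  refine two_cases S hπ hz hs _ _ ?_
  simp only [map_mul, map_inv, hi, hp]
  exact perm_facts.2.2.2.2.2.2.2.1.symm

/-- The twisting equation. -/
theorem twist {p i d : C} (hp3 : p * (p * p) = 1) (hd : π d = sT) (hp : π p = sR) (hi : π i = sI) {t : C}
    (ht : t * t = 1) (htc : ∀ y, t * y = y * t) (hdi : d * i * d⁻¹ = i * t) :
    ∃ j k e : C, j = p * i * p⁻¹ ∧ k = p * j * p⁻¹ ∧ (e = 1 ∨ e = z) ∧ i * j = k * e ∧ i * k = j * (t * e) := by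
  refine ⟨p * i * p⁻¹, p * (p * i * p⁻¹) * p⁻¹, ?_⟩
  have hpp : ∀ y, p⁻¹ * y * p = p * (p * y * p⁻¹) * p⁻¹ := fun y => by
    rw [inv_eq_of_mul_eq_one_right hp3]
    rw [show p * (p * y * (p * p)) * (p * p) = p * p * y * p * (p * (p * p)) by group, hp3, mul_one]
  obtain ⟨e, he, hij⟩ : ∃ e : C, (e = 1 ∨ e = z) ∧ i * (p * i * p⁻¹) = p * (p * i * p⁻¹) * p⁻¹ * e := by
    rcases mid S hπ hz hs hi hp with h | h
    · exact ⟨1, Or.inl rfl, by rw [h, mul_one]⟩
    · exact ⟨z, Or.inr rfl, by rw [h, mul_assoc _ z z, S.z2, mul_one]⟩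
  refine ⟨e, rfl, rfl, he, hij, ?_⟩
  have hec : ∀ y, e * y = y * e := fun y => by rcases he with rfl | rfl; · simp
                                               · exact S.zc y
  have dj : d * (p * i * p⁻¹) * d⁻¹ = p * (p * i * p⁻¹) * p⁻¹ * t := by
    rw [conj_J S hπ hz hs hp3 hd hp, hdi, hpp, show p * (p * (i * t) * p⁻¹) * p⁻¹ =
      p * (p * i * (t * p⁻¹)) * p⁻¹ by group, htc p⁻¹, show p * (p * i * (p⁻¹ * t)) * p⁻¹ =
      p * (p * i * p⁻¹) * (t * p⁻¹) by group, htc p⁻¹, ← mul_assoc]
  have dk : d * (p * (p * i * p⁻¹) * p⁻¹) * d⁻¹ = p * i * p⁻¹ * t := by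
    rw [conj_J S hπ hz hs hp3 hd hp, dj, show p⁻¹ * (p * (p * i * p⁻¹) * p⁻¹ * t) * p =
      p * i * p⁻¹ * p⁻¹ * (t * p) by group, htc p]
    group
  have h : (d * i * d⁻¹) * (d * (p * i * p⁻¹) * d⁻¹) = d * (p * (p * i * p⁻¹) * p⁻¹) * d⁻¹ * e := by
    rw [show d * i * d⁻¹ * (d * (p * i * p⁻¹) * d⁻¹) = d * (i * (p * i * p⁻¹)) * d⁻¹ by group, hij,
      show d * (p * (p * i * p⁻¹) * p⁻¹ * e) * d⁻¹ = d * (p * (p * i * p⁻¹) * p⁻¹) * (e * d⁻¹) by group,
      hec, ← mul_assoc]
  rw [hdi, dj, dk] at h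
  generalize p * (p * i * p⁻¹) * p⁻¹ = k at h ⊢
  rw [show i * t * (k * t) = i * (t * k) * t by group, htc, show i * (k * t) * t = i * k * (t * t) by group,
    ht, mul_one] at h
  rw [h, mul_assoc]

/-- The preimages of a double transposition have order four. -/
theorem sq_I {i : C} (hi : π i = sI) : i * i = z := by
  obtain ⟨p, hp, hp3⟩ := S.exists_three hπ hz hs
  obtain ⟨d, hd⟩ := hs sT
  have hsq : i * i = 1 ∨ i * i = z := by
    have h := two_cases S hπ hz hs 1 (i * i) (by rw [map_mul, hi, map_one]; exact perm_facts.2.2.2.2.2.2.1)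
    simpa using h
  refine hsq.resolve_left fun i2 => ?_
  have zc := S.zc
  rcases S.conj_I hπ hz hs hi hd with hdi | hdi
  · -- the centraliser of `i` is too large
    obtain ⟨j, k, e, hj, hk, he, hij, -⟩ := S.twist hπ hz hs hp3 hd hp hi (t := 1) (by simp) (by simp)
      (by rw [hdi, mul_one])
    have hec : ∀ y, e * y = y * e := fun y => by
      rcases he with rfl | rfl
      · simp
      · exact zc y
    have he2 : e * e = 1 := by
      rcases he with rfl | rfl
      · simp
      · exact S.z2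
    have j2 : j * j = 1 := by rw [hj, show p * i * p⁻¹ * (p * i * p⁻¹) = p * (i * i) * p⁻¹ by group, i2]; group
    have k2 : k * k = 1 := by rw [hk, show p * j * p⁻¹ * (p * j * p⁻¹) = p * (j * j) * p⁻¹ by group, j2]; group
    have hcomm : j * i = i * j := by
      have h1 : (i * j) * (i * j) = 1 := by
        rw [hij, show k * e * (k * e) = k * (e * k) * e by group, hec, show k * (k * e) * e = (k * k) * (e * e) by group,
          k2, he2, one_mul]
      calc j * i = i * (i * j * (i * j)) * j := by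
            rw [show i * (i * j * (i * j)) * j = (i * i) * j * i * (j * j) by group, i2, j2, one_mul, mul_one]
        _ = i * j := by rw [h1, mul_one]
    have hdi' : d * i = i * d := mul_inv_eq_iff_eq_mul.1 hdi
    let X := centralizer ({i} : Set C)
    have hji : π j = sR * sI * sR⁻¹ := by rw [hj]; simp [hi, hp]
    let f : Bool × (Fin 2 × Fin 2 × Fin 2) → X := fun n =>
      ⟨(if n.1 then z else 1) * (d ^ n.2.1.val * i ^ n.2.2.1.val * j ^ n.2.2.2.val), by
        refine mul_mem ?_ (mul_mem (mul_mem (pow_mem ?_ _) (pow_mem ?_ _)) (pow_mem ?_ _))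
        · split
          exacts [S.zC i, one_mem _]
        all_goals rw [mem_centralizer_singleton_iff]
        exacts [hdi', hcomm]⟩
    have hf : Function.Injective f := by
      rintro ⟨s, n⟩ ⟨s', n'⟩ h
      have h' : (if s then z else 1) * (d ^ n.1.val * i ^ n.2.1.val * j ^ n.2.2.val) =
          (if s' then z else 1) * (d ^ n'.1.val * i ^ n'.2.1.val * j ^ n'.2.2.val) := congrArg Subtype.val h
      have hn : n = n' := by
        have := congrArg π h'
        simp only [map_mul, map_pow, hd, hi, hji, apply_ite π, map_one, hz, ite_self, one_mul] at this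
        exact perm_eight this
      subst hn
      rw [mul_left_inj] at h'
      cases s <;> cases s' <;> simp_all [S.z1, Ne.symm S.z1]
    have h16 := Nat.card_le_card_of_injective f hf
    have hXX := S.cent i (fun e1 => perm_facts.2.2.2.2.1 (by rw [← hi, e1, map_one]))
      (fun e1 => perm_facts.2.2.2.2.1 (by rw [← hi, e1, hz]))
    simp only [Finset.mem_insert, Finset.mem_singleton] at hXX
    have h16' : Nat.card (Bool × (Fin 2 × Fin 2 × Fin 2)) = 16 := by simp
    change _ ≤ Nat.card (centralizer ({i} : Set C)) at h16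
    omega
  · -- conjugation cannot move `i`
    obtain ⟨j, k, e, hj, hk, he, hij, hik⟩ := S.twist hπ hz hs hp3 hd hp hi S.z2 zc hdi
    have hec : ∀ y, e * y = y * e := fun y => by
      rcases he with rfl | rfl
      · simp
      · exact zc y
    have he2 : e * e = 1 := by
      rcases he with rfl | rfl
      · simp
      · exact S.z2
    have hke : k = i * j * e := by rw [hij, mul_assoc, he2, mul_one]
    rw [hke, show i * (i * j * e) = (i * i) * (j * e) by group, i2, one_mul, ← mul_assoc] at hik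
    exact S.z1 (mul_eq_left.1 (mul_right_cancel hik).symm)

/-- An involution other than the central one lies over a transposition, up to relabelling. -/
theorem exists_rels {w : C} (hw : w * w = 1) (hpw : π w = sT) : ∃ i p : C, π i = sI ∧ π p = sR ∧ Rels z i p w := by
  have zc := S.zc
  obtain ⟨p, hp, hp3⟩ := S.exists_three hπ hz hs
  obtain ⟨i₀, hi₀⟩ := hs sI
  have wi' : w⁻¹ = w := inv_eq_of_mul_eq_one_right hw
  have hwi : ∀ i, π i = sI → w * i * w = i * z := by
    intro i hi
    rcases S.conj_I hπ hz hs hi hpw with h | h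
    · exfalso
      obtain ⟨j, k, e, hj, hk, he, hij, hik⟩ := S.twist hπ hz hs hp3 hpw hp hi (t := 1) (by simp) (by simp)
        (by rw [h, mul_one])
      have hec : ∀ y, e * y = y * e := fun y => by
        rcases he with rfl | rfl
        · simp
        · exact zc y
      have he2 : e * e = 1 := by
        rcases he with rfl | rfl
        · simp
        · exact S.z2
      have hke : k = i * j * e := by rw [hij, mul_assoc, he2, mul_one]
      rw [hke, show i * (i * j * e) = (i * i) * (j * e) by group, S.sq_I hπ hz hs hi, one_mul] at hik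
      exact S.z1 (mul_eq_right.1 hik)
    · rwa [wi'] at h
  have wp : w * p * w = p * p := by
    have h := S.conj_J hπ hz hs (i := p) hp3 hpw hp
    rw [show w * (p * p * p⁻¹) * w⁻¹ = w * p * w⁻¹ by group, show p⁻¹ * (w * p * w⁻¹) * p =
      p⁻¹ * (w * p * w⁻¹) * p from rfl] at h
    have h2 := two_cases S hπ hz hs (p * p) (w * p * w) (by
      rw [map_mul, map_mul, map_mul, hp, hpw]; exact perm_facts.2.2.1)
    refine h2.resolve_right fun h2 => S.z1 ?_
    have h3 : (w * p * w) * ((w * p * w) * (w * p * w)) = w * p * (w * w) * p * (w * w) * p * w := by group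
    rw [hw, mul_one, mul_one, mul_assoc (w * p) p p, mul_assoc w p (p * p), hp3, mul_one, hw, h2] at h3
    have : p * p * z * (p * p * z * (p * p * z)) = p * (p * p) * (p * (p * p)) * (z * (z * z)) := by
      have e1 : ∀ y, z * (p * y) = p * (z * y) := fun y => by rw [← mul_assoc, S.zc, mul_assoc]
      simp only [mul_assoc, e1]
    rw [this, hp3, S.z2] at h3
    simpa using h3
  rcases mid S hπ hz hs hi₀ hp with h | h
  · exact ⟨i₀, p, hi₀, hp, zc, S.z2, S.sq_I hπ hz hs hi₀, hp3, hw, wp, hwi _ hi₀, h.symm⟩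
  · have hi : π (i₀ * z) = sI := by rw [map_mul, hi₀, hz, mul_one]
    refine ⟨i₀ * z, p, hi, hp, zc, S.z2, S.sq_I hπ hz hs hi, hp3, hw, wp, hwi _ hi, ?_⟩
    have c1 : ∀ y, z * (p * y) = p * (z * y) := fun y => by rw [← mul_assoc, zc, mul_assoc]
    have c2 : ∀ y, z * (i₀ * y) = i₀ * (z * y) := fun y => by rw [← mul_assoc, zc, mul_assoc]
    have c3 : ∀ y, z * (p⁻¹ * y) = p⁻¹ * (z * y) := fun y => by rw [← mul_assoc, zc, mul_assoc]
    have c4 : z * p⁻¹ = p⁻¹ * z := zc _
    have c5 : ∀ y, z * (z * y) = y := fun y => by rw [← mul_assoc, S.z2, one_mul]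
    have h' := congrArg (· * z) h
    simp only [mul_assoc, S.z2, mul_one] at h'
    simp only [mul_assoc, c1, c2, c3, c4, c5, S.z2, mul_one]
    exact h'.symm

omit hπ hz hs in
/-- The identification. -/
theorem exists_equiv {w : C} (hw : w * w = 1) (hw1 : w ≠ 1) (hwz : w ≠ z) : Nonempty (K48 ≃* C) := by
  obtain ⟨π, hπ, hz, hs⟩ := S.exists_perm
  have hne : π w ≠ 1 := fun e => by
    rcases hπ 1 w (by rw [map_one, e]) with h | h
    exacts [hw1 h, hwz (by rw [h, one_mul])]
  obtain ⟨τ, hτ⟩ := perm_invol (π w) (by rw [← map_mul, hw, map_one]) hne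
  let π' : C →* Equiv.Perm (Fin 4) := (MulAut.conj τ).toMonoidHom.comp π
  have hπ' : ∀ a b, π' a = π' b → b = a ∨ b = a * z := fun a b h => hπ a b ((MulAut.conj τ).injective h)
  have hz' : π' z = 1 := by show MulAut.conj τ (π z) = 1; rw [hz, map_one]
  have hs' : Function.Surjective π' := (MulAut.conj τ).surjective.comp hs
  rcases hτ with hτ | hτ
  · exact absurd ((S.sq_I hπ' hz' hs' (i := w) hτ).symm.trans hw) S.z1
  obtain ⟨i, p, hi, hp, R⟩ := S.exists_rels hπ' hz' hs' hw hτ
  obtain ⟨φ, f1, f2, f3, f4⟩ := exists_hom R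
  have hsurj : Function.Surjective φ := by
    intro x
    obtain ⟨a, b, c, d, e⟩ := perm_word (π' x)
    have : π' (φ (i0 ^ a.val * (p0 * i0 * p0⁻¹) ^ b.val * p0 ^ c.val * w0 ^ d.val)) = π' x := by
      rw [e]
      simp only [map_mul, map_pow, map_inv, f2, f3, f4, hi, hp]
      rw [show π' w = sT from hτ]
    rcases hπ' _ _ this with h | h
    · exact ⟨_, h.symm⟩
    · exact ⟨i0 ^ a.val * (p0 * i0 * p0⁻¹) ^ b.val * p0 ^ c.val * w0 ^ d.val * zk, by rw [map_mul, f1]; exact h.symm⟩
  refine ⟨MulEquiv.ofBijective φ (hsurj.bijective_of_nat_card_le ?_)⟩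
  rw [S.card, Nat.card_eq_fintype_card, card48]

end Hyp

end Cfsg.Lib.CommGraphLThree
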