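import Cfsg.Agent.Recognition.LinearThreeThree.Plane
import Cfsg.Agent.TwoFusion.GLTwoThree.Model

/-!
Two centralisers in `SL(3,3)`: of an involution and of an element of order thirteen.
-/

set_option autoImplicit false
set_option maxRecDepth 8000

namespace Cfsg.Lib.CommGraphLThree

open Subgroup Cfsg.Lib.GLTwoThree Cfsg.Lib.Order9
open Cfsg.Lib.LThreeThree (SL33)
open scoped Matrix

/-- The block matrix. -/
def blk (M : Mt) : Matrix (Fin 3) (Fin 3) (ZMod 3) :=
  !![M.1.1, M.2.1, 0; M.1.2, M.2.2, 0; 0, 0, Cfsg.Lib.GLTwoThree.det M]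

theorem blk_det : ∀ k : K48, (blk k.m).det = 1 := by
  intro k
  have h : ∀ M : Mt, Cfsg.Lib.GLTwoThree.det M ≠ 0 →
      (M.1.1 * M.2.2 - M.2.1 * M.1.2) * Cfsg.Lib.GLTwoThree.det M = 1 := by decide +kernel
  rw [Matrix.det_fin_three, ← h k.m k.d]
  simp [blk]
  ring

theorem blk_mul (a b : Mt) : blk (comp a b) = blk a * blk b := by
  ext i j
  fin_cases i <;> fin_cases j <;>
    simp [blk, Matrix.mul_apply, Fin.sum_univ_three, comp, app, Cfsg.Lib.GLTwoThree.det] <;> ring

/-- `GL(2,3)` inside `SL(3,3)`. -/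
def blkHom : K48 →* SL33 where
  toFun k := ⟨blk k.m, blk_det k⟩
  map_one' := Subtype.ext (show blk (1 : K48).m = 1 by decide +kernel)
  map_mul' a b := Subtype.ext (blk_mul a.m b.m)

theorem blkHom_injective : Function.Injective blkHom := by
  intro a b h
  have h' : blk a.m = blk b.m := congrArg Subtype.val h
  refine K48.ext (Prod.ext (Prod.ext ?_ ?_) (Prod.ext ?_ ?_))
  exacts [congrFun (congrFun h' 0) 0, congrFun (congrFun h' 1) 0, congrFun (congrFun h' 0) 1,
    congrFun (congrFun h' 1) 1]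

theorem zero_of_neg : ∀ a : ZMod 3, a = -a → a = 0 := by decide

theorem centralizer_blk : blkHom.range = centralizer ({blkHom zk} : Set SL33) := by
  refine le_antisymm ?_ fun A hA => ?_
  · rintro _ ⟨k, rfl⟩
    rw [mem_centralizer_singleton_iff, ← map_mul, ← map_mul, zk_center]
  · have h : (A : Matrix (Fin 3) (Fin 3) (ZMod 3)) * blk zk.m = blk zk.m * (A : Matrix _ _ _) :=
      congrArg Subtype.val ((mem_centralizer_singleton_iff (G := SL33)).1 hA :
        A * blkHom zk = blkHom zk * A)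
    have h02 : (A : Matrix (Fin 3) (Fin 3) (ZMod 3)) 0 2 = 0 := zero_of_neg _ (by
      simpa [blk, zk, Matrix.mul_apply, Fin.sum_univ_three, Cfsg.Lib.GLTwoThree.det] using congrFun (congrFun h 0) 2)
    have h12 : (A : Matrix (Fin 3) (Fin 3) (ZMod 3)) 1 2 = 0 := zero_of_neg _ (by
      simpa [blk, zk, Matrix.mul_apply, Fin.sum_univ_three, Cfsg.Lib.GLTwoThree.det] using congrFun (congrFun h 1) 2)
    have h20 : (A : Matrix (Fin 3) (Fin 3) (ZMod 3)) 2 0 = 0 := zero_of_neg _ (by
      simpa [blk, zk, Matrix.mul_apply, Fin.sum_univ_three, Cfsg.Lib.GLTwoThree.det] using (congrFun (congrFun h 2) 0).symm)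
    have h21 : (A : Matrix (Fin 3) (Fin 3) (ZMod 3)) 2 1 = 0 := zero_of_neg _ (by
      simpa [blk, zk, Matrix.mul_apply, Fin.sum_univ_three, Cfsg.Lib.GLTwoThree.det] using (congrFun (congrFun h 2) 1).symm)
    have hd : (A : Matrix (Fin 3) (Fin 3) (ZMod 3)).det = 1 := A.2
    rw [Matrix.det_fin_three, h02, h12, h20, h21] at hd
    set M : Mt := ((A.1 0 0, A.1 1 0), (A.1 0 1, A.1 1 1)) with hM
    have hdet : Cfsg.Lib.GLTwoThree.det M * A.1 2 2 = 1 := by
      refine Eq.trans ?_ hd
      simp [hM, Cfsg.Lib.GLTwoThree.det]; ring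
    have hne : Cfsg.Lib.GLTwoThree.det M ≠ 0 := left_ne_zero_of_mul_eq_one hdet
    have h22 : A.1 2 2 = Cfsg.Lib.GLTwoThree.det M :=
      (by decide : ∀ a b : ZMod 3, a * b = 1 → b = a) _ _ hdet
    refine ⟨⟨M, hne⟩, Subtype.ext ?_⟩
    show blk M = A.1
    ext i j
    fin_cases i <;> fin_cases j <;> simp [blk, hM, h02, h12, h20, h21] <;> exact h22.symm

/-- An element of order thirteen. -/
def s13 : SL33 := ⟨!![0, 0, 1; 1, 0, 1; 0, 1, 0], by decide +kernel⟩

theorem s13_order : orderOf s13 = 13 := by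
  have : Fact (Nat.Prime 13) := ⟨by norm_num⟩
  exact orderOf_eq_prime (by decide +kernel) (by decide +kernel)

/-- The matrix with the given first column commuting with `s13`. -/
def fromCol (v : Fin 3 → ZMod 3) : Matrix (Fin 3) (Fin 3) (ZMod 3) :=
  !![v 0, v 2, v 1; v 1, v 0 + v 2, v 2 + v 1; v 2, v 1, v 0 + v 2]

theorem fromCol_count : (Finset.univ.filter fun v : ZMod 3 × ZMod 3 × ZMod 3 =>
    (fromCol ![v.1, v.2.1, v.2.2]).det = 1).card = 13 := by decide +kernel

theorem card_centralizer_s13 : Nat.card (centralizer ({s13} : Set SL33)) = 13 := by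
  refine le_antisymm ?_ ?_
  · let T := {v : ZMod 3 × ZMod 3 × ZMod 3 // (fromCol ![v.1, v.2.1, v.2.2]).det = 1}
    have key : ∀ A : centralizer ({s13} : Set SL33),
        fromCol ![A.1.1 0 0, A.1.1 1 0, A.1.1 2 0] = A.1.1 := by
      rintro ⟨A, hA⟩
      have hA' : A * s13 = s13 * A := (mem_centralizer_singleton_iff (G := SL33)).1 hA
      have h : (A : Matrix (Fin 3) (Fin 3) (ZMod 3)) * s13.1 = s13.1 * (A : Matrix _ _ _) :=
        congrArg Subtype.val hA'
      have e : ∀ i j, _ := fun i j => congrFun (congrFun h i) j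
      have e00 := e 0 0; have e10 := e 1 0; have e20 := e 2 0
      have e01 := e 0 1; have e11 := e 1 1; have e21 := e 2 1
      simp [s13, Matrix.mul_apply, Fin.sum_univ_three] at e00 e10 e20 e01 e11 e21
      ext i j
      fin_cases i <;> fin_cases j <;> simp [fromCol, e00, e10, e20, e01, e11, e21] <;> ring
    let f : centralizer ({s13} : Set SL33) → T := fun A =>
      ⟨(A.1.1 0 0, A.1.1 1 0, A.1.1 2 0), by rw [key A]; exact A.1.2⟩
    have hf : Function.Injective f := by
      intro A B h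
      have h' := congrArg Subtype.val h
      simp only [f, Prod.mk.injEq] at h'
      obtain ⟨h0, h1, h2⟩ := h'
      refine Subtype.ext (Subtype.ext ?_)
      rw [← key A, ← key B, h0, h1, h2]
    refine (Nat.card_le_card_of_injective f hf).trans ?_
    rw [Nat.card_eq_fintype_card, Fintype.card_subtype, fromCol_count]
  · have h : zpowers s13 ≤ centralizer ({s13} : Set SL33) :=
      zpowers_le.2 (mem_centralizer_singleton_iff.2 rfl)
    have := Nat.le_of_dvd Nat.card_pos (card_dvd_of_le h)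
    rwa [Nat.card_zpowers, s13_order] at this

theorem k48_cent : ∀ k : K48, k = 1 ∨ k = zk ∨
    (Finset.univ.filter fun j : K48 => j * k = k * j).card ∈ ({4, 6, 8} : Finset ℕ) := by decide +kernel

theorem k48_center : ∀ k : K48, (∀ j, j * k = k * j) → k = 1 ∨ k = zk := by decide +kernel

end Cfsg.Lib.CommGraphLThree
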