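import Cfsg.Agent.Recognition.CommGraphLThree.Ident
import Cfsg.Agent.Recognition.CommGraphLThree.Model
import Cfsg.Agent.Recognition.LinearThreeThree.Main
import Cfsg.Agent.S0215
import Mathlib.GroupTheory.Transfer
import Mathlib.GroupTheory.SpecificGroups.Cyclic

/-!
A group with the commuting graph of `PSL(3,3)`.
-/

set_option autoImplicit false
set_option maxRecDepth 8000

namespace Cfsg.Lib.CommGraphLThree

open Subgroup Cfsg.Lib.GLTwoThree
open scoped commutatorElement
open Cfsg.Lib.LThreeThree (SL33)

universe u

variable {H : Type u} [Group H] [Finite H]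

theorem card_fact (n : ℕ) (h : n ∣ 432) (h' : n % 13 = 1) : n = 1 ∨ n = 27 ∨ n = 144 := by
  have : n ∈ Nat.divisors 432 := Nat.mem_divisors.2 ⟨h, by norm_num⟩
  revert h' h; revert n
  decide +kernel

/-- A group of order 5616 with a self-centralising element of order thirteen is simple. -/
theorem isSimple_of_thirteen (hH : Nat.card H = 5616) (y : H) (hy : orderOf y = 13)
    (hC : Nat.card (centralizer ({y} : Set H)) = 13) : IsSimpleGroup H := by
  classical
  have : Fact (Nat.Prime 13) := ⟨by norm_num⟩
  have hfac : (5616 : ℕ).factorization 13 = 1 := by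
    rw [show (5616 : ℕ) = 13 * 432 by norm_num, Nat.factorization_mul (by norm_num) (by norm_num)]
    simp [Nat.Prime.factorization (show Nat.Prime 13 by norm_num),
      Nat.factorization_eq_zero_of_not_dvd (show ¬ 13 ∣ 432 by norm_num)]
  let P : Sylow 13 H := Sylow.ofCard (zpowers y) (by rw [Nat.card_zpowers, hy, hH, hfac, pow_one])
  have hP : (P : Subgroup H) = zpowers y := rfl
  have hPC : centralizer (P : Set H) = centralizer ({y} : Set H) := by
    show centralizer (zpowers y : Set H) = _
    rw [zpowers_eq_closure, centralizer_closure]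
  have hCP : centralizer (P : Set H) = (P : Subgroup H) := by
    rw [hPC, hP]
    refine (Subgroup.eq_of_le_of_card_ge (zpowers_le.2 (mem_centralizer_singleton_iff.2 rfl)) ?_).symm
    rw [hC, Nat.card_zpowers, hy]
  -- the normalisers
  have hN156 : Nat.card (normalizer (P : Set H)) ≤ 156 := by
    have hinj := QuotientGroup.kerLift_injective (normalizerMonoidHom (P : Subgroup H))
    have h1 := Nat.card_le_card_of_injective _ hinj
    have h2 : Nat.card (MulAut (P : Subgroup H)) = 12 := by
      have hcyc : IsCyclic (P : Subgroup H) := isCyclic_of_prime_card (p := 13) (by rw [hP, Nat.card_zpowers, hy])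
      rw [IsCyclic.card_mulAut, hP, Nat.card_zpowers, hy, Nat.totient_prime (by norm_num)]
    have h3 := Subgroup.card_eq_card_quotient_mul_card_subgroup (normalizerMonoidHom (P : Subgroup H)).ker
    have h4 : Nat.card (normalizerMonoidHom (P : Subgroup H)).ker = 13 := by
      rw [normalizerMonoidHom_ker, show centralizer ((P : Subgroup H) : Set H) = (P : Subgroup H) from hCP, Nat.card_congr (Subgroup.subgroupOfEquivOfLe le_normalizer).toEquiv,
        hP, Nat.card_zpowers, hy]
    rw [h2] at h1
    rw [h4] at h3
    change Nat.card (normalizer ((P : Subgroup H) : Set H)) ≤ 156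
    omega
  have hn : Nat.card (Sylow 13 H) = 144 ∧ Nat.card (normalizer (P : Set H)) = 39 := by
    have h1 : Nat.card (Sylow 13 H) % 13 = 1 % 13 := card_sylow_modEq_one 13 H
    have h2 := P.card_eq_index_normalizer
    have h3 := (normalizer (P : Set H)).index_mul_card
    rw [hH, ← h2] at h3
    have h4 : Nat.card (Sylow 13 H) ∣ 432 := by
      have h5 : 13 ∣ Nat.card (normalizer (P : Set H)) := by
        have := card_dvd_of_le (le_normalizer (H := (P : Subgroup H)))
        rw [hP, Nat.card_zpowers, hy] at this
        exact this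
      obtain ⟨k, hk⟩ := h5
      rw [hk] at h3
      exact ⟨k, by linarith⟩
    rcases card_fact _ h4 h1 with h | h | h <;> rw [h] at h3 ⊢ <;> constructor <;> omega
  -- a normal subgroup whose order is prime to thirteen
  have small : ∀ N : Subgroup H, N.Normal → ¬ 13 ∣ Nat.card N → N = ⊥ := by
    intro N hN h13
    have hd : Nat.card N ∣ 432 := by
      have h := (Subgroup.card_subgroup_dvd_card N)
      rw [hH, show (5616 : ℕ) = 13 * 432 by norm_num] at h
      exact ((Nat.Prime.coprime_iff_not_dvd (by norm_num)).2 h13).symm.dvd_of_dvd_mul_left h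
    -- the fixed points
    have hmod : Nat.card N % 13 = 1 := by
      let act : MulAction (zpowers y) N :=
        { smul := fun g n => ⟨(g : H) * n * (g : H)⁻¹, hN.conj_mem n n.2 g⟩
          one_smul := fun n => Subtype.ext (show ((1 : zpowers y) : H) * n * ((1 : zpowers y) : H)⁻¹ = n by simp)
          mul_smul := fun a b n => Subtype.ext (show ((a * b : zpowers y) : H) * n * ((a * b : zpowers y) : H)⁻¹ =
            (a : H) * ((b : H) * n * (b : H)⁻¹) * (a : H)⁻¹ by rw [Subgroup.coe_mul]; group) }
      have hp : IsPGroup 13 (zpowers y) := IsPGroup.of_card (n := 1) (by rw [Nat.card_zpowers, hy, pow_one])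
      have h := hp.card_modEq_card_fixedPoints N
      have hfix : MulAction.fixedPoints (zpowers y) N = {1} := by
        ext n
        refine ⟨fun hn => ?_, ?_⟩
        · have hn' := congrArg Subtype.val (hn ⟨y, mem_zpowers y⟩)
          change y * (n : H) * y⁻¹ = n at hn'
          have hmem : (n : H) ∈ centralizer ({y} : Set H) :=
            mem_centralizer_singleton_iff.2 (mul_inv_eq_iff_eq_mul.1 hn').symm
          have h13' : orderOf (n : H) ∣ 13 := hC ▸ Subgroup.orderOf_dvd_natCard _ hmem
          have hdN : orderOf (n : H) ∣ Nat.card N := Subgroup.orderOf_dvd_natCard _ n.2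
          rcases (Nat.dvd_prime (by norm_num)).1 h13' with e | e
          · exact Subtype.ext (orderOf_eq_one_iff.1 e)
          · exact absurd (e ▸ hdN) h13
        · intro hn g
          rw [Set.mem_singleton_iff] at hn
          subst hn
          exact Subtype.ext (show (g : H) * ((1 : N) : H) * (g : H)⁻¹ = ((1 : N) : H) by simp)
      rw [hfix, Nat.card_coe_set_eq ({1} : Set N), Set.ncard_singleton] at h
      exact h
    rcases card_fact _ hd hmod with h | h | h
    · exact Subgroup.eq_bot_of_card_eq _ h
    · exfalso
      -- all Sylow subgroups lie in the product, of order 351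
      have hq : Nat.card (H ⧸ N) = 208 := by
        have := Subgroup.card_eq_card_quotient_mul_card_subgroup N
        rw [hH, h] at this
        omega
      obtain ⟨Q⟩ : Nonempty (Sylow 13 (H ⧸ N)) := inferInstance
      have huniq : Subsingleton (Sylow 13 (H ⧸ N)) := by
        have h1 : Nat.card (Sylow 13 (H ⧸ N)) % 13 = 1 % 13 := card_sylow_modEq_one 13 (H ⧸ N)
        have h2 : Nat.card (Sylow 13 (H ⧸ N)) ∣ (Q : Subgroup (H ⧸ N)).index := Q.card_dvd_index
        have h3 : (Q : Subgroup (H ⧸ N)).index = 16 := by
          have hQc : Nat.card (Q : Subgroup (H ⧸ N)) = 13 := by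
            show Nat.card Q = 13
            rw [Sylow.card_eq_multiplicity, hq, show (208 : ℕ) = 13 * 16 by norm_num,
              Nat.factorization_mul (by norm_num) (by norm_num)]
            simp [Nat.Prime.factorization (show Nat.Prime 13 by norm_num),
              Nat.factorization_eq_zero_of_not_dvd (show ¬ 13 ∣ 16 by norm_num)]
          have := (Q : Subgroup (H ⧸ N)).index_mul_card
          rw [hq, hQc] at this
          omega
        rw [h3] at h2
        have h4 := Nat.le_of_dvd (by norm_num) h2
        refine (Finite.card_le_one_iff_subsingleton).1 ?_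
        have h5 : Nat.card (Sylow 13 (H ⧸ N)) ≠ 14 := fun e => by rw [e] at h2; norm_num at h2
        omega
      let M : Subgroup H := (Q : Subgroup (H ⧸ N)).comap (QuotientGroup.mk' N)
      have hM : Nat.card M = 351 := by
        have hQc : Nat.card (Q : Subgroup (H ⧸ N)) = 13 := by
          show Nat.card Q = 13
          rw [Sylow.card_eq_multiplicity, hq, show (208 : ℕ) = 13 * 16 by norm_num,
            Nat.factorization_mul (by norm_num) (by norm_num)]
          simp [Nat.Prime.factorization (show Nat.Prime 13 by norm_num),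
            Nat.factorization_eq_zero_of_not_dvd (show ¬ 13 ∣ 16 by norm_num)]
        have h1 := M.index_mul_card
        have h2 : M.index = (Q : Subgroup (H ⧸ N)).index :=
          Subgroup.index_comap_of_surjective _ (QuotientGroup.mk'_surjective N)
        have h3 := (Q : Subgroup (H ⧸ N)).index_mul_card
        rw [hq, hQc] at h3
        rw [hH, h2, show (Q : Subgroup (H ⧸ N)).index = 16 by omega] at h1
        omega
      have hall : ∀ R : Sylow 13 H, (R : Subgroup H) ≤ M := by
        intro R g hg
        obtain ⟨Q', hQ'⟩ := (R.2.map (QuotientGroup.mk' N)).exists_le_sylow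
        rw [Subsingleton.elim Q' Q] at hQ'
        exact hQ' ⟨g, hg, rfl⟩
      have hinj : Function.Injective (fun R : Sylow 13 H => R.subtype (hall R)) := fun R S e => Sylow.subtype_injective e
      have hle := Nat.card_le_card_of_injective _ hinj
      obtain ⟨R⟩ : Nonempty (Sylow 13 M) := inferInstance
      have h2 := R.card_dvd_index
      have h3 := (R : Subgroup M).index_mul_card
      have hRc : Nat.card (R : Subgroup M) = 13 := by
        show Nat.card R = 13
        rw [Sylow.card_eq_multiplicity, hM, show (351 : ℕ) = 13 * 27 by norm_num,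
          Nat.factorization_mul (by norm_num) (by norm_num)]
        simp [Nat.Prime.factorization (show Nat.Prime 13 by norm_num),
          Nat.factorization_eq_zero_of_not_dvd (show ¬ 13 ∣ 27 by norm_num)]
      rw [hM, hRc] at h3
      have := Nat.le_of_dvd (by omega) h2
      omega
    · exfalso
      have : Fact (Nat.Prime 3) := ⟨Nat.prime_three⟩
      -- a Sylow three-subgroup normalised by `y`
      have hsyl : ∀ T : Sylow 3 N, Nat.card T = 9 := fun T => by
        rw [Sylow.card_eq_multiplicity, h, show (144 : ℕ) = 3 ^ 2 * 2 ^ 4 by norm_num,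
          Nat.factorization_mul (by norm_num) (by norm_num), Nat.factorization_pow, Nat.factorization_pow]
        simp [Nat.Prime.factorization Nat.prime_two, Nat.Prime.factorization Nat.prime_three]
      have h13n : ¬ 13 ∣ Nat.card (Sylow 3 N) := by
        intro hd13
        obtain ⟨T⟩ : Nonempty (Sylow 3 N) := inferInstance
        have hidx := T.card_dvd_index
        have hi := (T : Subgroup N).index_mul_card
        rw [h, show Nat.card (T : Subgroup N) = 9 from hsyl T] at hi
        rw [show (T : Subgroup N).index = 16 by omega] at hidx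
        have := Nat.le_of_dvd (by norm_num) (hd13.trans hidx)
        have := hd13.trans hidx
        omega
      let c : H →* MulAut N := MulAut.conjNormal
      let act : MulAction (zpowers y) (Sylow 3 N) :=
        MulAction.compHom (Sylow 3 N) (c.comp (zpowers y).subtype)
      have hp : IsPGroup 13 (zpowers y) := IsPGroup.of_card (n := 1) (by rw [Nat.card_zpowers, hy, pow_one])
      obtain ⟨T, hT⟩ := hp.nonempty_fixed_point_of_prime_not_dvd_card (Sylow 3 N) h13n
      let T' : Subgroup H := (T : Subgroup N).map N.subtype
      have hinv : ∀ g : zpowers y, ∀ t ∈ T', (g : H) * t * (g : H)⁻¹ ∈ T' := by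
        rintro g _ ⟨t, ht, rfl⟩
        have hg : c (g : H) • T = T := hT g
        refine ⟨c (g : H) t, ?_, MulAut.conjNormal_apply _ _⟩
        rw [← hg]
        exact Subgroup.smul_mem_pointwise_smul t (c (g : H)) _ ht
      let act' : MulAction (zpowers y) T' :=
        { smul := fun g n => ⟨(g : H) * n * (g : H)⁻¹, hinv g n n.2⟩
          one_smul := fun n => Subtype.ext (show ((1 : zpowers y) : H) * n * ((1 : zpowers y) : H)⁻¹ = n by simp)
          mul_smul := fun a b n => Subtype.ext (show ((a * b : zpowers y) : H) * n * ((a * b : zpowers y) : H)⁻¹ =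
            (a : H) * ((b : H) * n * (b : H)⁻¹) * (a : H)⁻¹ by rw [Subgroup.coe_mul]; group) }
      have hfix := hp.card_modEq_card_fixedPoints T'
      have hone : MulAction.fixedPoints (zpowers y) T' = {1} := by
        ext n
        refine ⟨fun hn => ?_, ?_⟩
        · have hn' := congrArg Subtype.val (hn ⟨y, mem_zpowers y⟩)
          change y * (n : H) * y⁻¹ = n at hn'
          have hmem : (n : H) ∈ centralizer ({y} : Set H) :=
            mem_centralizer_singleton_iff.2 (mul_inv_eq_iff_eq_mul.1 hn').symm
          have h13' : orderOf (n : H) ∣ 13 := hC ▸ Subgroup.orderOf_dvd_natCard _ hmem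
          obtain ⟨m, hm, hmn⟩ := n.2
          have hdN : orderOf (n : H) ∣ Nat.card N := Subgroup.orderOf_dvd_natCard _ (hmn ▸ m.2)
          rcases (Nat.dvd_prime (by norm_num)).1 h13' with e | e
          · exact Subtype.ext (orderOf_eq_one_iff.1 e)
          · exact absurd (e ▸ hdN) h13
        · intro hn g
          rw [Set.mem_singleton_iff] at hn
          subst hn
          exact Subtype.ext (show (g : H) * ((1 : T') : H) * (g : H)⁻¹ = ((1 : T') : H) by simp)
      have hT9 : Nat.card T' = 9 := by
        show Nat.card ((T : Subgroup N).map N.subtype) = 9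
        rw [Subgroup.card_map_of_injective (Subgroup.subtype_injective N)]
        exact hsyl T
      rw [hone, hT9, Nat.card_coe_set_eq ({1} : Set T'), Set.ncard_singleton] at hfix
      exact absurd hfix (by decide)
  have : Nontrivial H := Finite.one_lt_card_iff_nontrivial.1 (by rw [hH]; norm_num)
  refine ⟨fun N hN => ?_⟩
  by_cases h13 : 13 ∣ Nat.card N
  swap
  · exact Or.inl (small N hN h13)
  refine Or.inr ?_
  by_contra hne
  -- all Sylow subgroups lie in `N`
  have hPN : ∀ R : Sylow 13 H, (R : Subgroup H) ≤ N := by
    obtain ⟨a, ha⟩ := exists_prime_orderOf_dvd_card' (G := N) 13 h13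
    have ha' : orderOf (a : H) = 13 := (Subgroup.orderOf_coe a).trans ha
    obtain ⟨S, hS⟩ := (IsPGroup.of_card (n := 1) (by rw [Nat.card_zpowers, ha', pow_one]) :
      IsPGroup 13 (zpowers (a : H))).exists_le_sylow
    have hSeq : zpowers (a : H) = (S : Subgroup H) := Subgroup.eq_of_le_of_card_ge hS (by
      rw [Nat.card_zpowers, ha']
      show Nat.card S ≤ 13
      rw [Sylow.card_eq_multiplicity, hH, hfac]
      norm_num)
    intro R
    obtain ⟨g, hg⟩ := MulAction.exists_smul_eq H S R
    rw [← hg, Sylow.coe_subgroup_smul, ← hSeq]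
    rintro _ ⟨m, hm, rfl⟩
    exact hN.conj_mem m (zpowers_le.2 a.2 hm) g
  have hPle : (P : Subgroup H) ≤ N := hPN P
  -- Frattini
  have hfr : normalizer (P : Set H) ⊔ N = ⊤ := by
    have h := Sylow.normalizer_sup_eq_top (N := N) (P.subtype hPle)
    rw [show (((P.subtype hPle : Sylow 13 N) : Subgroup N).map N.subtype) = (P : Subgroup H) from
      Subgroup.map_subgroupOf_eq_of_le hPle] at h
    exact h
  have h39 := hn.2
  set I : Subgroup H := N ⊓ normalizer (P : Set H) with hI
  have hI13 : 13 ∣ Nat.card I := by
    have := card_dvd_of_le (show (P : Subgroup H) ≤ I from le_inf hPle le_normalizer)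
    rw [hP, Nat.card_zpowers, hy] at this
    exact this
  have hIle : Nat.card I ∣ 39 := h39 ▸ card_dvd_of_le inf_le_right
  have hprod : Nat.card N * 39 = 5616 * Nat.card I := by
    have h1 : N.relIndex (normalizer (P : Set H)) = N.index := by
      rw [← Subgroup.relIndex_top_right, ← hfr, Subgroup.relIndex_sup_right]
    have h2 := Subgroup.relIndex_mul_index (inf_le_right : I ≤ normalizer (P : Set H))
    have h3 := N.index_mul_card
    have h4 := I.index_mul_card
    have h5 : I.relIndex (normalizer (P : Set H)) * Nat.card I = 39 := by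
      rw [← h39]
      have := (I.subgroupOf (normalizer (P : Set H))).index_mul_card
      rwa [Nat.card_congr (Subgroup.subgroupOfEquivOfLe (inf_le_right : I ≤ _)).toEquiv] at this
    rw [hI, Subgroup.inf_relIndex_right, h1] at h5
    rw [hH] at h3
    rw [← h3, ← h5, hI]
    ring
  have hNlt : Nat.card N < 5616 := by
    rw [← hH]
    exact lt_of_le_of_ne (Nat.le_of_dvd Nat.card_pos (Subgroup.card_subgroup_dvd_card N))
      (fun e => hne (Subgroup.eq_top_of_card_eq N e))
  have hI' : Nat.card I = 13 := by
    obtain ⟨k, hk⟩ := hI13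
    have h5 : Nat.card I ≤ 39 := Nat.le_of_dvd (by norm_num) hIle
    have hpos : 0 < Nat.card I := Nat.card_pos
    rcases (show k = 0 ∨ k = 1 ∨ k = 2 ∨ k = 3 by omega) with rfl | rfl | rfl | rfl
    · omega
    · omega
    · rw [hk] at hIle; norm_num at hIle
    · omega
  have hN1872 : Nat.card N = 1872 := by rw [hI'] at hprod; omega
  -- transfer
  let P' : Sylow 13 N := P.subtype hPle
  have hP'c : Nat.card (P' : Subgroup N) = 13 := by
    show Nat.card ((P : Subgroup H).subgroupOf N) = 13
    rw [Nat.card_congr (Subgroup.subgroupOfEquivOfLe hPle).toEquiv, hP, Nat.card_zpowers, hy]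
  have hburn : normalizer (P' : Set N) ≤ centralizer (P' : Set N) := by
    intro g hg
    have hgI : (g : H) ∈ (P : Subgroup H) := by
      have hIP : (P : Subgroup H) = I := Subgroup.eq_of_le_of_card_ge (le_inf hPle le_normalizer)
        (by rw [hI', hP, Nat.card_zpowers, hy])
      rw [hIP]
      refine ⟨g.2, ?_⟩
      show (g : H) ∈ normalizer ((P : Subgroup H) : Set H)
      rw [mem_normalizer_iff]
      intro x
      constructor
      · intro hx
        exact (mem_normalizer_iff.1 hg ⟨x, hPle hx⟩).1 hx
      · intro hx
        have hxN : x ∈ N := by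
          have := hN.conj_mem _ (hPle hx) (g : H)⁻¹
          simpa [mul_assoc] using this
        exact (mem_normalizer_iff.1 hg ⟨x, hxN⟩).2 hx
    intro x hx
    refine Subtype.ext ?_
    have hgc : (g : H) ∈ centralizer (P : Set H) := hCP.symm ▸ hgI
    exact hgc (x : H) hx
  have hcomp := MonoidHom.ker_transferSylow_isComplement' P' hburn
  set K := (MonoidHom.transferSylow P' hburn).ker with hK
  have hK144 : Nat.card K = 144 := by
    have := hcomp.card_mul
    rw [hP'c, hN1872] at this
    omega
  -- the complement is characteristic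
  have hKchar : K.Characteristic := by
    refine Subgroup.characteristic_iff_map_le.2 fun φ => ?_
    rintro _ ⟨k, hk, rfl⟩
    by_contra hnot
    have h1 : orderOf (φ k) ∣ 144 := by
      rw [φ.orderOf_eq, ← hK144]
      exact Subgroup.orderOf_dvd_natCard _ hk
    have h2 : orderOf ((φ k : N) : N ⧸ K) ∣ 13 := by
      have hidx : Nat.card (N ⧸ K) = 13 := by
        have := K.index_mul_card
        rw [hN1872, hK144] at this
        show K.index = 13
        omega
      exact (_root_.orderOf_dvd_natCard _).trans hidx.dvd
    have h3 : orderOf ((φ k : N) : N ⧸ K) ∣ 1 := by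
      have := Nat.dvd_gcd ((orderOf_map_dvd (QuotientGroup.mk' K) (φ k)).trans h1) h2
      exact this
    exact hnot ((QuotientGroup.eq_one_iff _).1 (orderOf_eq_one_iff.1 (Nat.dvd_one.1 h3)))
  have hKn : (K.map N.subtype).Normal := by
    haveI := hKchar
    infer_instance
  have hbad := small (K.map N.subtype) hKn (by
    rw [Subgroup.card_map_of_injective (Subgroup.subtype_injective N), hK144]; norm_num)
  rw [Subgroup.map_eq_bot_iff_of_injective _ (Subgroup.subtype_injective N)] at hbad
  rw [hbad, Subgroup.card_bot] at hK144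
  omega

/-- A group with the commuting relation of `SL(3,3)` is `PSL(3,3)`. -/
theorem equiv_of_comm (F : H ≃ SL33) (h1 : F 1 = 1) (hF : ∀ a b, a * b = b * a ↔ F a * F b = F b * F a) :
    Nonempty (H ≃* Matrix.ProjectiveSpecialLinearGroup (Fin 3) (ZMod 3)) := by
  classical
  have : Fact (Nat.Prime 2) := ⟨Nat.prime_two⟩
  have hcard : Nat.card H = 5616 := (Nat.card_congr F).trans Cfsg.Lib.LThreeThree.card_SL33
  have hcent : ∀ a, Nat.card (centralizer ({a} : Set H)) = Nat.card (centralizer ({F a} : Set SL33)) := fun a =>
    Nat.card_congr (F.subtypeEquiv fun b => by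
      simp only [mem_centralizer_singleton_iff]; exact hF b a)
  -- thirteen
  set y := F.symm s13 with hy
  have hC13 : Nat.card (centralizer ({y} : Set H)) = 13 := by
    rw [hcent, hy, Equiv.apply_symm_apply, card_centralizer_s13]
  have hy1 : y ≠ 1 := fun e => by
    have : s13 = 1 := by rw [← h1, ← e, hy, Equiv.apply_symm_apply]
    have h := s13_order
    rw [this, orderOf_one] at h
    omega
  have hyo : orderOf y = 13 := by
    have hd : orderOf y ∣ 13 := hC13 ▸ Subgroup.orderOf_dvd_natCard _ (mem_centralizer_singleton_iff.2 rfl)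
    rcases (Nat.dvd_prime (by norm_num)).1 hd with e | e
    exacts [absurd (orderOf_eq_one_iff.1 e) hy1, e]
  have hsimple := isSimple_of_thirteen hcard y hyo hC13
  -- the involution
  set u : SL33 := blkHom zk with hu
  set t := F.symm u with ht
  have hFt : F t = u := Equiv.apply_symm_apply _ _
  have ht1 : t ≠ 1 := fun e => by
    have : blkHom zk = blkHom 1 := by rw [map_one, ← h1, ← e, hFt]
    exact absurd (blkHom_injective this) (by decide +kernel)
  let θ : K48 ≃* centralizer ({u} : Set SL33) :=
    (MonoidHom.ofInjective blkHom_injective).trans (MulEquiv.subgroupCongr centralizer_blk)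
  have hθ : ∀ k, (θ k : SL33) = blkHom k := fun _ => rfl
  let g : centralizer ({t} : Set H) ≃ K48 :=
    (F.subtypeEquiv (q := fun b => b ∈ centralizer ({u} : Set SL33)) fun b => by
      simp only [mem_centralizer_singleton_iff, hu ▸ hFt]
      rw [← hFt]; exact hF b t).trans θ.symm.toEquiv
  have hg : ∀ a, blkHom (g a) = F a := fun a => by
    rw [← hθ]
    show ((θ (θ.symm _)) : SL33) = _
    rw [MulEquiv.apply_symm_apply]
    rfl
  have hgc : ∀ a b, a * b = b * a ↔ g a * g b = g b * g a := fun a b => by
    rw [Subtype.ext_iff, Subgroup.coe_mul, Subgroup.coe_mul, hF, ← hg, ← hg, ← map_mul blkHom, ← map_mul blkHom,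
      blkHom_injective.eq_iff]
  have htC : t ∈ centralizer ({t} : Set H) := mem_centralizer_singleton_iff.2 rfl
  set z : centralizer ({t} : Set H) := ⟨t, htC⟩ with hzdef
  have gz : g z = zk := blkHom_injective (by rw [hg]; exact hFt)
  have g1 : g 1 = 1 := blkHom_injective (by rw [hg, map_one]; exact h1)
  have hzc : ∀ x, z * x = x * z := fun x => (hgc z x).2 (by rw [gz, zk_center])
  have hcenter : ∀ a, (∀ x, x * a = a * x) → a = 1 ∨ a = z := by
    intro a ha
    rcases k48_center (g a) (fun j => by
      obtain ⟨x, rfl⟩ := g.surjective j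
      exact (hgc x a).1 (ha x)) with e | e
    · exact Or.inl (g.injective (e.trans g1.symm))
    · exact Or.inr (g.injective (e.trans gz.symm))
  have hz1 : z ≠ 1 := fun e => ht1 (congrArg Subtype.val e)
  have hz2 : z * z = 1 := by
    rcases hcenter (z * z) (fun x => (Commute.mul_left (hzc x) (hzc x)).eq.symm) with e | e
    · exact e
    · exact absurd (mul_eq_left.1 e) hz1
  have S : Hyp (centralizer ({t} : Set H)) z := by
    refine ⟨(Nat.card_congr g).trans (by rw [Nat.card_eq_fintype_card, card48]), hzc, hz2, hz1, fun x hx hxz => ?_⟩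
    rw [Nat.card_congr (g.subtypeEquiv (p := fun b => b ∈ centralizer ({x} : Set (centralizer ({t} : Set H))))
      (q := fun j => j * g x = g x * j) fun b => by rw [mem_centralizer_singleton_iff]; exact hgc b x),
      Nat.card_eq_fintype_card, Fintype.card_subtype]
    rcases k48_cent (g x) with e | e | e
    · exact absurd (g.injective (e.trans g1.symm)) hx
    · exact absurd (g.injective (e.trans gz.symm)) hxz
    · exact e
  have ht2 : orderOf t = 2 := orderOf_eq_prime (by rw [pow_two]; exact congrArg Subtype.val hz2) ht1
  -- a second involution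
  obtain ⟨w, hw, hw1, hwz⟩ : ∃ w, w * w = 1 ∧ w ≠ 1 ∧ w ≠ z := by
    by_contra hno
    push Not at hno
    obtain ⟨S2, hS2⟩ := (IsPGroup.of_card (n := 1) (by rw [Nat.card_zpowers, S.order_z, pow_one]) :
      IsPGroup 2 (zpowers z)).exists_le_sylow
    obtain ⟨P, hP⟩ := (S2.2.map (centralizer ({t} : Set H)).subtype).exists_le_sylow
    have hPeq : (S2 : Subgroup _).map (centralizer ({t} : Set H)).subtype = (P : Subgroup H) := by
      refine Subgroup.eq_of_le_of_card_ge hP ?_
      rw [Subgroup.card_map_of_injective (Subgroup.subtype_injective _)]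
      show Nat.card P ≤ Nat.card S2
      rw [Sylow.card_eq_multiplicity, Sylow.card_eq_multiplicity, hcard, S.card,
        show (5616 : ℕ) = 2 ^ 4 * 351 by norm_num, show (48 : ℕ) = 2 ^ 4 * 3 by norm_num,
        Nat.factorization_mul (by norm_num) (by norm_num), Nat.factorization_mul (by norm_num) (by norm_num)]
      simp [Nat.factorization_eq_zero_of_not_dvd (show ¬ 2 ∣ 351 by norm_num),
        Nat.factorization_eq_zero_of_not_dvd (show ¬ 2 ∣ 3 by norm_num)]
    obtain ⟨N, hN, hodd, hcomm⟩ := Cfsg.Agent.S0215.result P t ht2
      (show t ∈ (P : Subgroup H) from hPeq ▸ ⟨z, hS2 (mem_zpowers z), rfl⟩) (fun x hx => by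
        replace hx : x * t * x⁻¹ ∈ (P : Subgroup H) := hx
        rw [← hPeq] at hx
        obtain ⟨a, -, ha⟩ := hx
        have ha2 : a * a = 1 := Subtype.ext (by
          show (a : H) * a = 1
          rw [show (a : H) = x * t * x⁻¹ from ha, show x * t * x⁻¹ * (x * t * x⁻¹) = x * (t * t) * x⁻¹ by group,
            ← pow_two, ← ht2, pow_orderOf_eq_one, mul_one, mul_inv_cancel])
        have ha1 : a ≠ 1 := fun e => ht1 (conj_eq_one_iff.1 (ha.symm.trans (congrArg Subtype.val e)))
        rw [← ha, hno a ha2 ha1]
        rfl)
    rcases hN.eq_bot_or_eq_top with e | e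
    · have hall : centralizer ({t} : Set H) = ⊤ := eq_top_iff.2 fun x _ => by
        have := hcomm x
        rw [e, mem_bot] at this
        exact mem_centralizer_singleton_iff.2 (mul_inv_eq_iff_eq_mul.1 (mul_inv_eq_one.1 this)).symm
      have h48 := S.card
      rw [hall, Subgroup.card_top, hcard] at h48
      omega
    · rw [e, Subgroup.card_top, hcard] at hodd
      exact absurd hodd (by decide)
  obtain ⟨e48⟩ := S.exists_equiv hw hw1 hwz
  obtain ⟨eGL⟩ := exists_iso
  have hna : commutator H = ⊤ := by
    rcases (inferInstance : (commutator H).Normal).eq_bot_or_eq_top with e | e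
    swap; · exact e
    exfalso
    have hc : IsMulCommutative H := by
      refine ⟨⟨fun a b => ?_⟩⟩
      have : ⁅a, b⁆ ∈ commutator H := commutator_mem_commutator (mem_top a) (mem_top b)
      rw [e, mem_bot] at this
      exact commutatorElement_eq_one_iff_mul_comm.1 this
    have hall : centralizer ({y} : Set H) = ⊤ := eq_top_iff.2 fun x _ =>
      mem_centralizer_singleton_iff.2 (hc.is_comm.comm x y)
    rw [hall, Subgroup.card_top, hcard] at hC13
    omega
  obtain ⟨D, -⟩ := Cfsg.Lib.GLTwoThree.exists_setup (fun r _ => hna ▸ mem_top r) t ht2 ⟨e48.symm.trans eGL⟩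
  exact Cfsg.Lib.LThreeThree.equiv_PSL ⟨D, hcard, hsimple⟩

end Cfsg.Lib.CommGraphLThree
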