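import Cfsg.Agent.TwoFusion.GLTwoThree.Model

/-!
`GL(2,3)` by generators: a normal form, and the homomorphism from the model.
-/

set_option autoImplicit false
set_option maxRecDepth 8000

namespace Cfsg.Lib.CommGraphLThree

open Cfsg.Lib.GLTwoThree

universe u

/-- The relations. -/
structure Rels {C : Type u} [Group C] (z i p w : C) : Prop where
  zc : ∀ x, z * x = x * z
  z2 : z * z = 1
  i2 : i * i = z
  p3 : p * (p * p) = 1
  w2 : w * w = 1
  wp : w * p * w = p * p
  wi : w * i * w = i * z
  ij : i * (p * i * p⁻¹) = p * (p * i * p⁻¹) * p⁻¹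

/-- Normal forms. -/
abbrev NF : Type := Bool × Fin 4 × Fin 3 × Bool

section

variable {C : Type u} [Group C]

/-- The powers of the central element. -/
def zs (z : C) : Bool → C
  | false => 1
  | true => z

/-- The four representatives of the quaternion group. -/
def qs (i p : C) : Fin 4 → C := ![1, i, p * i * p⁻¹, p * (p * i * p⁻¹) * p⁻¹]

/-- The powers of the element of order three. -/
def ps (p : C) : Fin 3 → C := ![1, p, p * p]

/-- The powers of the involution. -/
def ws (w : C) : Bool → C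
  | false => 1
  | true => w

/-- The value of a normal form. -/
def val (z i p w : C) (n : NF) : C := zs z n.1 * qs i p n.2.1 * ps p n.2.2.1 * ws w n.2.2.2

end

/-- The multiplication of representatives: sign. -/
def qsign : Fin 4 → Fin 4 → Bool :=
  ![![false, false, false, false], ![false, true, false, true], ![false, true, true, false],
    ![false, false, true, true]]

/-- The multiplication of representatives. -/
def qmul : Fin 4 → Fin 4 → Fin 4 :=
  ![![0, 1, 2, 3], ![1, 0, 3, 2], ![2, 3, 0, 1], ![3, 2, 1, 0]]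

/-- Right multiplication by the involution. -/
def stepW (n : NF) : NF := (n.1, n.2.1, n.2.2.1, !n.2.2.2)

/-- Right multiplication by the element of order three. -/
def stepP (n : NF) : NF := (n.1, n.2.1, if n.2.2.2 then n.2.2.1 - 1 else n.2.2.1 + 1, n.2.2.2)

/-- The conjugate of the first generator met on the way. -/
def rot : Fin 3 → Fin 4 := ![1, 2, 3]

/-- Right multiplication by the first generator. -/
def stepI (n : NF) : NF :=
  (xor n.1 (xor n.2.2.2 (qsign n.2.1 (rot n.2.2.1))), qmul n.2.1 (rot n.2.2.1), n.2.2.1, n.2.2.2)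

namespace Rels

variable {C : Type u} [Group C] {z i p w : C} (R : Rels z i p w)
include R

theorem zs_comm (b : Bool) (x : C) : zs z b * x = x * zs z b := by
  cases b
  · simp [zs]
  · exact R.zc x

theorem zs_xor (a b : Bool) : zs z a * zs z b = zs z (xor a b) := by
  cases a <;> cases b <;> simp [zs, R.z2]

theorem pinv : p⁻¹ = p * p := inv_eq_of_mul_eq_one_right R.p3

theorem winv : w⁻¹ = w := inv_eq_of_mul_eq_one_right R.w2

theorem conj_z : p * z * p⁻¹ = z := by rw [← R.zc, mul_inv_cancel_right]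

theorem jj : (p * i * p⁻¹) * (p * i * p⁻¹) = z := by
  rw [show p * i * p⁻¹ * (p * i * p⁻¹) = p * (i * i) * p⁻¹ by group, R.i2, R.conj_z]

theorem kk : p * (p * i * p⁻¹) * p⁻¹ * (p * (p * i * p⁻¹) * p⁻¹) = z := by
  rw [show p * (p * i * p⁻¹) * p⁻¹ * (p * (p * i * p⁻¹) * p⁻¹) =
    p * ((p * i * p⁻¹) * (p * i * p⁻¹)) * p⁻¹ by group, R.jj, R.conj_z]

theorem pk : p * (p * (p * i * p⁻¹) * p⁻¹) * p⁻¹ = i := by
  rw [show p * (p * (p * i * p⁻¹) * p⁻¹) * p⁻¹ = (p * (p * p)) * i * (p * (p * p))⁻¹ by group, R.p3]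
  simp

theorem jk : (p * i * p⁻¹) * (p * (p * i * p⁻¹) * p⁻¹) = i := by
  rw [show (p * i * p⁻¹) * (p * (p * i * p⁻¹) * p⁻¹) = p * (i * (p * i * p⁻¹)) * p⁻¹ by group, R.ij, R.pk]

theorem ki : (p * (p * i * p⁻¹) * p⁻¹) * i = p * i * p⁻¹ := by
  conv_lhs => arg 2; rw [← R.pk]
  rw [show (p * (p * i * p⁻¹) * p⁻¹) * (p * (p * (p * i * p⁻¹) * p⁻¹) * p⁻¹) =
    p * ((p * i * p⁻¹) * (p * (p * i * p⁻¹) * p⁻¹)) * p⁻¹ by group, R.jk]

theorem qs_mul : ∀ a b : Fin 4, qs i p a * qs i p b = zs z (qsign a b) * qs i p (qmul a b) := by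
  have ij := R.ij
  have jk := R.jk
  have ki := R.ki
  have jj := R.jj
  have kk := R.kk
  have i2 := R.i2
  generalize hj : p * i * p⁻¹ = j at *
  generalize hk : p * j * p⁻¹ = k at *
  have ik : i * k = z * j := by rw [← ij, ← mul_assoc, i2]
  have kj : k * j = z * i := by rw [← ij, mul_assoc, jj, ← R.zc i]
  have ji : j * i = z * k := by rw [← ki, mul_assoc, i2, R.zc]
  intro a b
  fin_cases a <;> fin_cases b <;>
    simp [qs, qsign, qmul, zs, hj, hk, ij, jk, ki, jj, kk, i2, ik, kj, ji]

theorem ps_i : ∀ c : Fin 3, ps p c * i = qs i p (rot c) * ps p c := by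
  intro c
  fin_cases c <;> simp [ps, qs, rot] <;> group

theorem ws_p : ∀ d : Bool, ws w d * p = ps p (if d then 2 else 1) * ws w d := by
  intro d
  cases d
  · simp [ws, ps]
  · show w * p = ps p 2 * w
    rw [show ps p 2 = p * p from rfl, ← R.wp, mul_assoc, R.w2, mul_one]

theorem ps_add : ∀ a b : Fin 3, ps p a * ps p b = ps p (a + b) := by
  intro a b
  have h := R.p3
  fin_cases a <;> fin_cases b <;> simp [ps, Fin.add_def] <;>
    first | (rw [← mul_assoc] at h; simp [mul_assoc] at h ⊢; simp [h]) | simp [mul_assoc, h]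

theorem ws_i : ∀ d : Bool, ws w d * i = zs z d * i * ws w d := by
  intro d
  cases d
  · simp [ws, zs]
  · show w * i = z * i * w
    rw [R.zc i, ← R.wi, mul_assoc, R.w2, mul_one]

theorem val_w (n : NF) : val z i p w n * w = val z i p w (stepW n) := by
  obtain ⟨s, q, c, d⟩ := n
  cases d <;> simp [val, stepW, ws, mul_assoc, R.w2]

theorem val_p (n : NF) : val z i p w n * p = val z i p w (stepP n) := by
  obtain ⟨s, q, c, d⟩ := n
  simp only [val, stepP]
  rw [mul_assoc _ (ws w d) p, R.ws_p, ← mul_assoc, mul_assoc _ (ps p c), R.ps_add]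
  cases d
  · rfl
  · have hc : c + 2 = c - 1 := by revert c; decide
    simp only [if_true, hc]

theorem val_i (n : NF) : val z i p w n * i = val z i p w (stepI n) := by
  obtain ⟨s, q, c, d⟩ := n
  simp only [val, stepI]
  have e : ps p c * ws w d * i = zs z d * qs i p (rot c) * ps p c * ws w d := by
    rw [mul_assoc, R.ws_i, ← mul_assoc, ← mul_assoc, ← R.zs_comm, mul_assoc _ (ps p c) i, R.ps_i,
      ← mul_assoc]
  calc zs z s * qs i p q * ps p c * ws w d * i
      = zs z s * qs i p q * (ps p c * ws w d * i) := by simp only [mul_assoc]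
    _ = zs z s * (qs i p q * zs z d) * qs i p (rot c) * ps p c * ws w d := by rw [e]; simp only [mul_assoc]
    _ = zs z s * zs z d * (qs i p q * qs i p (rot c)) * ps p c * ws w d := by
        rw [← R.zs_comm]; simp only [mul_assoc]
    _ = zs z s * zs z d * zs z (qsign q (rot c)) * qs i p (qmul q (rot c)) * ps p c * ws w d := by
        rw [R.qs_mul]; simp only [mul_assoc]
    _ = _ := by rw [R.zs_xor, R.zs_xor, Bool.xor_assoc]

end Rels

/-- The first generator of the model. -/
def i0 : K48 := ⟨((0, 1), (2, 0)), by decide⟩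
/-- The second generator of the model. -/
def p0 : K48 := ⟨((0, 1), (2, 2)), by decide⟩
/-- The third generator of the model. -/
def w0 : K48 := ⟨((0, 1), (1, 0)), by decide⟩

theorem rels0 : Rels zk i0 p0 w0 :=
  ⟨by decide +kernel, by decide +kernel, by decide +kernel, by decide +kernel, by decide +kernel,
    by decide +kernel, by decide +kernel, by decide +kernel⟩

theorem val0_bijective : Function.Bijective (val zk i0 p0 w0) := by
  rw [Fintype.bijective_iff_injective_and_card]
  exact ⟨by decide +kernel, by decide +kernel⟩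

/-- The homomorphism from the model to a group satisfying the relations. -/
theorem exists_hom {C : Type u} [Group C] {z i p w : C} (R : Rels z i p w) :
    ∃ φ : K48 →* C, φ zk = z ∧ φ i0 = i ∧ φ p0 = p ∧ φ w0 = w := by
  let e := Equiv.ofBijective _ val0_bijective
  let φ : K48 → C := fun x => val z i p w (e.symm x)
  have hval : ∀ n, φ (val zk i0 p0 w0 n) = val z i p w n := fun n => by
    simp only [φ]
    exact congrArg _ (e.symm_apply_apply n)
  have gen : ∀ (g0 : K48) (g : C) (st : NF → NF), (∀ n, val zk i0 p0 w0 n * g0 = val zk i0 p0 w0 (st n)) →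
      (∀ n, val z i p w n * g = val z i p w (st n)) → ∀ x, φ (x * g0) = φ x * g := by
    intro g0 g st h0 h1 x
    obtain ⟨n, rfl⟩ := val0_bijective.2 x
    rw [h0, hval, hval, h1]
  have hi := gen i0 i stepI rels0.val_i R.val_i
  have hp := gen p0 p stepP rels0.val_p R.val_p
  have hw := gen w0 w stepW rels0.val_w R.val_w
  have h1 : φ 1 = 1 := by
    have e1 : val zk i0 p0 w0 (false, 0, 0, false) = 1 := by decide +kernel
    rw [← e1, hval]
    simp [val, zs, qs, ps, ws]
  have gi : φ i0 = i := by rw [← one_mul i0, hi, h1, one_mul]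
  have gp : φ p0 = p := by rw [← one_mul p0, hp, h1, one_mul]
  have gw : φ w0 = w := by rw [← one_mul w0, hw, h1, one_mul]
  let M : Submonoid K48 :=
    { carrier := {y | ∀ x, φ (x * y) = φ x * φ y}
      one_mem' := fun x => by rw [mul_one, h1, mul_one]
      mul_mem' := fun {a b} ha hb x => by rw [← mul_assoc, hb, ha, hb a, mul_assoc] }
  have mi : i0 ∈ M := fun x => by rw [hi, gi]
  have mp : p0 ∈ M := fun x => by rw [hp, gp]
  have mw : w0 ∈ M := fun x => by rw [hw, gw]
  have mz : zk ∈ M := rels0.i2 ▸ M.mul_mem mi mi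
  have pinv0 : p0⁻¹ = p0 * p0 := rels0.pinv
  have all : ∀ y, y ∈ M := by
    intro y
    obtain ⟨⟨s, q, c, d⟩, rfl⟩ := val0_bijective.2 y
    refine M.mul_mem (M.mul_mem (M.mul_mem ?_ ?_) ?_) ?_
    · cases s
      exacts [M.one_mem, mz]
    · have mq : p0⁻¹ ∈ M := pinv0 ▸ M.mul_mem mp mp
      fin_cases q
      exacts [M.one_mem, mi, M.mul_mem (M.mul_mem mp mi) mq,
        M.mul_mem (M.mul_mem mp (M.mul_mem (M.mul_mem mp mi) mq)) mq]
    · fin_cases c
      exacts [M.one_mem, mp, M.mul_mem mp mp]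
    · cases d
      exacts [M.one_mem, mw]
  refine ⟨⟨⟨φ, h1⟩, fun x y => all y x⟩, ?_, gi, gp, gw⟩
  show φ zk = z
  rw [← rels0.i2, hi, gi, R.i2]

end Cfsg.Lib.CommGraphLThree
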